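import Groth.Agent.Lib.QFSplit24.Point

/-!
# Finite étale splitting up to nilpotents
-/

set_option autoImplicit false
set_option linter.style.haveILetI false

universe u

open scoped TensorProduct

namespace Groth.Agent.QFSplit24

variable {T : Type u} [CommRing T] {A : Type u} [CommRing A] [Algebra T A]

theorem exists_partition (hreg : IsReg T)
    (halg : ∀ (q : Ideal T) [q.IsMaximal], letI := Ideal.Quotient.field q; IsAlgClosed (T ⧸ q))
    [Algebra.FinitePresentation T A] [Algebra.QuasiFinite T A] :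
    ∃ (m : ℕ) (E : Fin m → T), (∀ i, IsIdempotentElem (E i)) ∧ (∀ i j, i ≠ j → E i * E j = 0) ∧
      ∑ i, E i = 1 ∧ ∀ i, Good A (E i) := by
  classical
  choose e he hep hgood using fun p : PrimeSpectrum T => exists_good (A := A) hreg p.asIdeal halg
  obtain ⟨s, hs⟩ := isCompact_univ.elim_finite_subcover (fun p : PrimeSpectrum T => (PrimeSpectrum.basicOpen (e p) : Set (PrimeSpectrum T)))
    (fun p => (PrimeSpectrum.basicOpen (e p)).2) fun p _ => Set.mem_iUnion.2 ⟨p, hep p⟩
  let F : Fin s.card → T := fun i => e (s.equivFin.symm i)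
  have hF : ∀ i, IsIdempotentElem (F i) := fun i => he _
  let E : Fin s.card → T := fun i => F i * ∏ j ∈ Finset.univ.filter (fun j => j < i), (1 - F j)
  have hE : ∀ i, IsIdempotentElem (E i) := fun i => (hF i).mul (Finset.prod_induction _ IsIdempotentElem
    (fun _ _ ha hb => ha.mul hb) IsIdempotentElem.one fun j _ => (hF j).one_sub)
  have hlt : ∀ i j, i < j → E i * E j = 0 := fun i j h => by
    obtain ⟨c, hc⟩ : (1 - F i) ∣ ∏ l ∈ Finset.univ.filter (fun l => l < j), (1 - F l) :=
      Finset.dvd_prod_of_mem _ (Finset.mem_filter.2 ⟨Finset.mem_univ _, h⟩)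
    show F i * _ * (F j * _) = 0
    rw [hc]
    linear_combination -(∏ l ∈ Finset.univ.filter (fun l => l < i), (1 - F l)) * F j * c * (hF i).eq
  have horth : ∀ i j, i ≠ j → E i * E j = 0 := fun i j h => by
    rcases lt_or_gt_of_ne h with h | h
    · exact hlt i j h
    · rw [mul_comm]; exact hlt j i h
  refine ⟨s.card, E, hE, horth, ?_, fun i => (hgood (s.equivFin.symm i)).mono ?_ (hE i)⟩
  · have hzero : ∀ P : PrimeSpectrum T, (1 : T) - ∑ i, E i ∈ P.asIdeal := fun P => by
      obtain ⟨q, hq, hPq⟩ := Set.mem_iUnion₂.1 (hs (Set.mem_univ P))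
      have hne : ∃ i, F i ∉ P.asIdeal := ⟨s.equivFin ⟨q, hq⟩, by simpa [F] using hPq⟩
      obtain ⟨i, hi, hmin⟩ := Finset.exists_min_image (Finset.univ.filter fun i => F i ∉ P.asIdeal) id
        (by obtain ⟨i, hi⟩ := hne; exact ⟨i, Finset.mem_filter.2 ⟨Finset.mem_univ _, hi⟩⟩)
      have hi' : F i ∉ P.asIdeal := (Finset.mem_filter.1 hi).2
      have hEi : E i ∉ P.asIdeal := fun h => (P.isPrime.mem_or_mem h).elim hi' fun h' => by
        obtain ⟨j, hj, hjP⟩ := Ideal.IsPrime.prod_mem_iff.1 h'
        by_cases hFj : F j ∈ P.asIdeal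
        · have := P.asIdeal.add_mem hjP hFj
          rw [sub_add_cancel] at this
          exact P.isPrime.ne_top ((Ideal.eq_top_iff_one _).2 this)
        · exact absurd (Finset.mem_filter.1 hj).2 (not_lt.2 (hmin j (Finset.mem_filter.2 ⟨Finset.mem_univ _, hFj⟩)))
      refine (P.isPrime.mem_or_mem (show E i * (1 - ∑ j, E j) ∈ P.asIdeal from ?_)).resolve_left hEi
      rw [mul_sub, mul_one, Finset.mul_sum, Finset.sum_eq_single i (fun j _ hj => horth i j hj.symm)
        (fun h => absurd (Finset.mem_univ i) h), (hE i).eq, sub_self]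
      exact P.asIdeal.zero_mem
    have hidem : IsIdempotentElem (∑ i, E i) := by
      show (∑ i, E i) * ∑ i, E i = ∑ i, E i
      rw [Finset.sum_mul]
      refine Finset.sum_congr rfl fun i _ => ?_
      rw [Finset.mul_sum, Finset.sum_eq_single i (fun j _ hj => horth i j hj.symm)
        (fun h => absurd (Finset.mem_univ i) h), (hE i).eq]
    have hnil : IsNilpotent (1 - ∑ i, E i) := by
      rw [← mem_nilradical, nilradical_eq_sInf, Submodule.mem_sInf]
      exact fun P hP => hzero ⟨P, hP⟩
    exact (sub_eq_zero.1 (hidem.one_sub.eq_zero_of_isNilpotent hnil)).symm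
  · show F i * _ * e (s.equivFin.symm i) = F i * _
    rw [mul_right_comm]
    exact congrArg (· * _) (hF i).eq
  
/-- The finite étale quotient. -/
theorem exists_finite_etale_quotient (hreg : IsReg T)
    (halg : ∀ (q : Ideal T) [q.IsMaximal], letI := Ideal.Quotient.field q; IsAlgClosed (T ⧸ q))
    [Algebra.FinitePresentation T A] [Algebra.QuasiFinite T A] :
    ∃ (C : Type u) (_ : CommRing C) (_ : Algebra T C) (π : A →ₐ[T] C),
      Algebra.Etale T C ∧ Module.Finite T C ∧ Function.Surjective π ∧ ∀ a, π a = 0 → IsNilpotent a := by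
  classical
  obtain ⟨m, E, hE, horth, hsum, hgood⟩ := exists_partition (A := A) hreg halg
  choose n φ hs hn using hgood
  let C : Type u := ∀ x : (i : Fin m) × Fin (n i), T ⧸ Ideal.span {1 - E x.1}
  let π : A →ₐ[T] C := AlgHom.mk' (RingHom.pi fun x => (φ x.1 x.2).toRingHom) fun t a => funext fun x =>
    map_smul (φ x.1 x.2) t a
  haveI : ∀ i, Algebra.Etale T (T ⧸ Ideal.span {1 - E i}) := fun i => by
    haveI : IsLocalization.Away (E i) (T ⧸ Ideal.span {1 - E i}) :=
      IsLocalization.away_of_isIdempotentElem (hE i) Ideal.mk_ker Ideal.Quotient.mk_surjective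
    exact Algebra.Etale.of_isLocalizationAway (E i)
  refine ⟨C, inferInstance, inferInstance, π, inferInstance, inferInstance, fun c => ?_, fun a ha => ?_⟩
  · choose d hd using fun x => Ideal.Quotient.mk_surjective (c x)
    choose a ha using fun i => hs i fun l => d ⟨i, l⟩
    refine ⟨∑ i, E i • a i, funext fun x => ?_⟩
    show φ x.1 x.2 (∑ i, E i • a i) = c x
    rw [map_sum, Finset.sum_eq_single x.1 (fun j _ hj => ?_) (fun h => absurd (Finset.mem_univ _) h)]
    · rw [map_smul, ha, Algebra.smul_def, Ideal.Quotient.algebraMap_eq, ← map_mul, ← hd x]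
      refine Ideal.Quotient.eq.2 (Ideal.mem_span_singleton.2 ⟨-d x, ?_⟩)
      show E x.1 * d ⟨x.1, x.2⟩ - d x = _
      ring
    · rw [map_smul, Algebra.smul_def, Ideal.Quotient.algebraMap_eq,
        mk_eq_zero (horth x.1 j hj.symm), zero_mul]
  · have h : ∀ i, IsNilpotent (E i • a) := fun i => hn i a fun l => congr_fun ha ⟨i, l⟩
    have : a = ∑ i, E i • a := by rw [← Finset.sum_smul, hsum, one_smul]
    rw [this]
    exact isNilpotent_sum fun i _ => h i

end Groth.Agent.QFSplit24
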