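import Groth.Agent.Lib.QFSplit24.Ring

/-!
# Splitting data near a point
-/

set_option autoImplicit false
set_option linter.style.haveILetI false
set_option maxHeartbeats 800000

universe u

open scoped TensorProduct

namespace Groth.Agent.QFSplit24

variable {T : Type u} [CommRing T] {A : Type u} [CommRing A] [Algebra T A]

theorem exists_kill_finset (hreg : IsReg T) (p : Ideal T) [p.IsPrime] (s : Finset T)
    (hs : ∀ x ∈ s, x ∈ p) : ∃ e : T, IsIdempotentElem e ∧ e ∉ p ∧ ∀ x ∈ s, e * x = 0 := by
  classical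
  induction s using Finset.induction_on with
  | empty => exact ⟨1, IsIdempotentElem.one, fun h => Ideal.IsPrime.ne_top ‹_› ((Ideal.eq_top_iff_one p).2 h),
      by simp⟩
  | insert a t hat ih =>
    obtain ⟨e, he, hep, he0⟩ := ih fun x hx => hs x (Finset.mem_insert_of_mem hx)
    obtain ⟨e', he', hep', he0'⟩ := hreg.exists_kill p (hs a (Finset.mem_insert_self _ _))
    refine ⟨e * e', he.mul he', fun h => (Ideal.IsPrime.mem_or_mem ‹_› h).elim hep hep', fun x hx => ?_⟩
    rcases Finset.mem_insert.1 hx with rfl | hx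
    · rw [mul_assoc, he0', mul_zero]
    · rw [mul_comm e e', mul_assoc, he0 x hx, mul_zero]

theorem exists_kill_map (hreg : IsReg T) (p : Ideal T) [p.IsPrime] {a : A}
    (ha : a ∈ p.map (algebraMap T A)) : ∃ e : T, IsIdempotentElem e ∧ e ∉ p ∧ e • a = 0 := by
  refine Submodule.span_induction ?_ ?_ ?_ ?_ ha
  · rintro _ ⟨x, hx, rfl⟩
    obtain ⟨e, he, hep, h0⟩ := hreg.exists_kill p hx
    exact ⟨e, he, hep, by rw [Algebra.smul_def, ← map_mul, h0, map_zero]⟩
  · exact ⟨1, IsIdempotentElem.one, fun h => Ideal.IsPrime.ne_top ‹_› ((Ideal.eq_top_iff_one p).2 h), smul_zero _⟩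
  · rintro x y - - ⟨e, he, hep, h0⟩ ⟨e', he', hep', h0'⟩
    refine ⟨e * e', he.mul he', fun h => (Ideal.IsPrime.mem_or_mem ‹_› h).elim hep hep', ?_⟩
    rw [smul_add, mul_smul, mul_smul, h0', smul_zero, add_zero, smul_comm, h0, smul_zero]
  · rintro c x - ⟨e, he, hep, h0⟩
    exact ⟨e, he, hep, by rw [← smul_comm, h0, smul_zero]⟩

/-- Near every point the algebra splits up to nilpotents. -/
theorem exists_good (hreg : IsReg T) (p : Ideal T) [p.IsPrime]
    (halg : ∀ (q : Ideal T) [q.IsMaximal], letI := Ideal.Quotient.field q; IsAlgClosed (T ⧸ q))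
    [Algebra.FinitePresentation T A] [Algebra.QuasiFinite T A] :
    ∃ e : T, IsIdempotentElem e ∧ e ∉ p ∧ Good A e := by
  classical
  haveI := hreg.isMaximal p
  letI := Ideal.Quotient.field p
  haveI := halg p
  let k := T ⧸ p
  let B := k ⊗[T] A
  haveI : Module.Finite k B := Module.Finite.of_quasiFinite
  haveI : IsArtinianRing B := IsArtinianRing.of_finite k B
  haveI : Fintype (MaximalSpectrum B) := Fintype.ofFinite _
  let n := Fintype.card (MaximalSpectrum B)
  let M : Fin n → MaximalSpectrum B := (Fintype.equivFin (MaximalSpectrum B)).symm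
  let ι : A →ₐ[T] B := Algebra.TensorProduct.includeRight
  haveI : ∀ l, (M l).asIdeal.IsMaximal := fun l => (M l).isMaximal
  have hb : ∀ l, Function.Bijective (algebraMap k (B ⧸ (M l).asIdeal)) := fun l => by
    haveI : Algebra.IsIntegral k (B ⧸ (M l).asIdeal) := inferInstance
    exact IsAlgClosed.algebraMap_bijective_of_isIntegral
  let ev : ∀ l, B →ₐ[k] k := fun l =>
    ((AlgEquiv.ofBijective (Algebra.ofId k (B ⧸ (M l).asIdeal)) (hb l)).symm.toAlgHom).comp
      (Ideal.Quotient.mkₐ k _)
  have hev : ∀ l x, ev l x = 0 ↔ x ∈ (M l).asIdeal := fun l x => by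
    show (AlgEquiv.ofBijective (Algebra.ofId k (B ⧸ (M l).asIdeal)) (hb l)).symm (Ideal.Quotient.mk _ x) = 0 ↔ _
    rw [EmbeddingLike.map_eq_zero_iff, Ideal.Quotient.eq_zero_iff_mem]
  let ψ : Fin n → A →ₐ[T] k := fun l => ((ev l).restrictScalars T).comp ι
  have hι : Function.Surjective ι := fun b => by
    induction b using TensorProduct.induction_on with
    | zero => exact ⟨0, map_zero _⟩
    | tmul c a =>
      obtain ⟨t, rfl⟩ := Ideal.Quotient.mk_surjective c
      refine ⟨t • a, ?_⟩
      show (1 : k) ⊗ₜ[T] (t • a) = _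
      rw [← TensorProduct.smul_tmul, Algebra.smul_def, mul_one]
      rfl
    | add x y hx hy =>
      obtain ⟨a, ha⟩ := hx; obtain ⟨b, hb⟩ := hy
      exact ⟨a + b, by rw [map_add, ha, hb]⟩
  -- dual elements
  have hdual : ∀ j, ∃ u : A, ∀ l, ψ l u = if l = j then 1 else 0 := fun j => by
    have hco : Pairwise fun a b : Fin n => IsCoprime (M a).asIdeal (M b).asIdeal := fun a b hab =>
      Ideal.isCoprime_iff_sup_eq.2 (Ideal.IsMaximal.coprime_of_ne inferInstance inferInstance fun h =>
        hab ((Fintype.equivFin (MaximalSpectrum B)).symm.injective (MaximalSpectrum.ext h)))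
    obtain ⟨x, hx⟩ := Ideal.quotientInfToPiQuotient_surj hco (fun l => if l = j then 1 else 0)
    obtain ⟨b, rfl⟩ := Ideal.Quotient.mk_surjective x
    obtain ⟨u, rfl⟩ := hι b
    refine ⟨u, fun l => ?_⟩
    have h1 : Ideal.Quotient.mk (M l).asIdeal (ι u) = if l = j then 1 else 0 := congr_fun hx l
    show (AlgEquiv.ofBijective (Algebra.ofId k (B ⧸ (M l).asIdeal)) (hb l)).symm (Ideal.Quotient.mk _ (ι u)) = _
    rw [h1]
    split <;> simp
  choose u hu using hdual
  have hnil : ∀ g : A, (∀ l, ψ l g = 0) → ∃ e : T, IsIdempotentElem e ∧ e ∉ p ∧ IsNilpotent (e • g) := by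
    intro g hg
    have hj : IsNilpotent (ι g) := by
      rw [← mem_nilradical, ← Ring.jacobson_eq_nilradical_of_krullDimLE_zero, Ring.jacobson_eq_sInf_isMaximal,
        Submodule.mem_sInf]
      intro I hI
      have hI' : Ideal.IsMaximal I := hI
      obtain ⟨l, hl⟩ := (Fintype.equivFin (MaximalSpectrum B)).symm.surjective ⟨I, hI'⟩
      have := (hev l (ι g)).1 (hg l)
      rwa [show (M l).asIdeal = I from congrArg MaximalSpectrum.asIdeal hl] at this
    obtain ⟨N, hN⟩ := hj
    rw [← map_pow] at hN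
    have h1 : g ^ N ∈ p.map (algebraMap T A) := by
      have h2 := congrArg (TensorProduct.quotTensorEquivQuotSMul A p) hN
      rw [map_zero] at h2
      erw [TensorProduct.quotTensorEquivQuotSMul_mk_one_tmul] at h2
      rw [Submodule.Quotient.mk_eq_zero, Ideal.smul_top_eq_map, Submodule.restrictScalars_mem] at h2
      exact h2
    obtain ⟨e, he, hep, h0⟩ := exists_kill_map hreg p h1
    refine ⟨e, he, hep, N + 1, ?_⟩
    rw [smul_pow, pow_succ g, ← mul_smul_comm]
    rw [show e ^ (N + 1) = e from he.pow_succ_eq N]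
    rw [mul_smul_comm, ← smul_mul_assoc, h0, zero_mul]
  -- lifting the points
  obtain ⟨m, f, hf, ⟨G, hG⟩⟩ := (Algebra.FinitePresentation.out : ∃ (m : ℕ)
    (f : MvPolynomial (Fin m) T →ₐ[T] A), Function.Surjective f ∧ (RingHom.ker f.toRingHom).FG)
  choose r hr using fun l i => Ideal.Quotient.mk_surjective (ψ l (f (MvPolynomial.X i)))
  have haev : ∀ l P, Ideal.Quotient.mk p (MvPolynomial.aeval (r l) P) = ψ l (f P) := fun l P => by
    have : (Ideal.Quotient.mkₐ T p).comp (MvPolynomial.aeval (r l)) = (ψ l).comp f :=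
      MvPolynomial.algHom_ext fun i => by simp [hr]
    exact congr($this P)
  choose P hP using fun j => hf (u j)
  let R0 : Finset T :=
    (Finset.univ.biUnion fun l => G.image fun g => MvPolynomial.aeval (r l) g) ∪
    (Finset.univ.biUnion fun l => Finset.univ.image fun j =>
      MvPolynomial.aeval (r l) (P j) - if l = j then 1 else 0)
  obtain ⟨e₁, he₁, hep₁, hk₁⟩ := exists_kill_finset hreg p R0 (by
    intro x hx
    simp only [R0, Finset.mem_union, Finset.mem_biUnion, Finset.mem_univ, Finset.mem_image, true_and] at hx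
    rcases hx with ⟨l, g, hg, rfl⟩ | ⟨l, j, rfl⟩
    · rw [← Ideal.Quotient.eq_zero_iff_mem, haev,
        show f g = 0 from (hG ▸ Ideal.subset_span hg : g ∈ RingHom.ker f.toRingHom), map_zero]
    · rw [← Ideal.Quotient.eq_zero_iff_mem, map_sub, haev, hP, hu]
      split <;> simp)
  let rel : Option (Fin n × Fin m) → A := fun o => o.elim (1 - ∑ j, u j)
    fun li => u li.1 * (f (MvPolynomial.X li.2) - r li.1 li.2 • 1)
  choose e₂ he₂ hep₂ hk₂ using fun o => hnil (rel o) (fun l => by
    rcases o with _ | ⟨j, i⟩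
    · show ψ l (1 - ∑ j, u j) = 0
      rw [map_sub, map_one, map_sum, Finset.sum_congr rfl fun j _ => hu j l, Finset.sum_ite_eq,
        if_pos (Finset.mem_univ l), sub_self]
    · show ψ l (u j * (f (MvPolynomial.X i) - r j i • 1)) = 0
      rw [map_mul, hu]
      by_cases h : l = j
      · subst h
        rw [map_sub, map_smul, map_one, ← hr l i, Algebra.smul_def, mul_one, Ideal.Quotient.algebraMap_eq,
          sub_self, mul_zero]
      · rw [if_neg h, zero_mul])
  let e := e₁ * ∏ o, e₂ o
  have he : IsIdempotentElem e := he₁.mul (Finset.prod_induction _ IsIdempotentElem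
    (fun _ _ ha hb => ha.mul hb) IsIdempotentElem.one fun o _ => he₂ o)
  have hep : e ∉ p := fun h => (Ideal.IsPrime.mem_or_mem ‹_› h).elim hep₁ fun h' => by
    obtain ⟨o, -, ho⟩ := (Ideal.IsPrime.prod_mem_iff).1 h'
    exact hep₂ o ho
  have hkill : ∀ x ∈ R0, Ideal.Quotient.mk (Ideal.span {1 - e}) x = 0 := fun x hx =>
    mk_eq_zero (by rw [show e = (∏ o, e₂ o) * e₁ from mul_comm _ _, mul_assoc, hk₁ x hx, mul_zero])
  let φ0 : Fin n → (MvPolynomial (Fin m) T →ₐ[T] T ⧸ Ideal.span {1 - e}) := fun l =>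
    (Ideal.Quotient.mkₐ T _).comp (MvPolynomial.aeval (r l))
  have hker : ∀ l, RingHom.ker f.toRingHom ≤ RingHom.ker (φ0 l).toRingHom := fun l => by
    rw [← hG, Ideal.span_le]
    intro g hg
    exact hkill _ (Finset.mem_union_left _ (Finset.mem_biUnion.2 ⟨l, Finset.mem_univ _, Finset.mem_image_of_mem _ hg⟩))
  let φ : Fin n → (A →ₐ[T] T ⧸ Ideal.span {1 - e}) := fun l =>
    { f.toRingHom.liftOfSurjective hf ⟨(φ0 l).toRingHom, hker l⟩ with
      commutes' := fun t => by
        show f.toRingHom.liftOfSurjective hf ⟨(φ0 l).toRingHom, hker l⟩ (algebraMap T A t) = _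
        rw [← f.commutes t]
        exact (f.toRingHom.liftOfRightInverse_comp_apply _ _ _ _).trans ((φ0 l).commutes t) }
  have hφ : ∀ l P, φ l (f P) = Ideal.Quotient.mk _ (MvPolynomial.aeval (r l) P) := fun l P =>
    f.toRingHom.liftOfRightInverse_comp_apply _ _ ⟨(φ0 l).toRingHom, hker l⟩ P
  refine ⟨e, he, hep, n, φ, fun c => ⟨∑ j, c j • u j, fun l => ?_⟩, fun a ha => ?_⟩
  · rw [map_sum]
    have h1 : ∀ j, φ l (u j) = if l = j then 1 else 0 := fun j => by
      rw [← hP j, hφ]
      have h0 := hkill _ (Finset.mem_union_right _ (Finset.mem_biUnion.2 ⟨l, Finset.mem_univ _,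
        Finset.mem_image_of_mem (fun j => MvPolynomial.aeval (r l) (P j) - if l = j then 1 else 0) (Finset.mem_univ j)⟩))
      rw [map_sub, sub_eq_zero] at h0
      rw [h0]
      split <;> simp
    simp only [map_smul, h1, smul_ite, smul_zero, Finset.sum_ite_eq, Finset.mem_univ, if_true]
    rw [Algebra.smul_def, mul_one]
    rfl
  · let N : Ideal A := Ideal.span (Set.range fun o => e • rel o)
    have hN : N ≤ nilradical A := by
      rw [Ideal.span_le]
      rintro _ ⟨o, rfl⟩
      obtain ⟨d, hd⟩ : e₂ o ∣ e := (Finset.dvd_prod_of_mem _ (Finset.mem_univ o)).mul_left e₁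
      show IsNilpotent (e • rel o)
      rw [hd, mul_comm, mul_smul, Algebra.smul_def]
      exact (Commute.all _ _).isNilpotent_mul_left (hk₂ o)
    have step : ∀ (j : Fin n) (Q : MvPolynomial (Fin m) T),
        e • (f Q * u j) - e • ((MvPolynomial.aeval (r j) Q) • u j) ∈ N := by
      intro j Q
      induction Q using MvPolynomial.induction_on with
      | C t =>
        rw [show f (MvPolynomial.C t) = algebraMap T A t from f.commutes t, ← Algebra.smul_def,
          MvPolynomial.aeval_C, Algebra.algebraMap_self_apply, sub_self]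
        exact N.zero_mem
      | add P Q hP hQ =>
        convert N.add_mem hP hQ using 1
        rw [map_add, map_add, add_mul, add_smul, smul_add, smul_add]
        abel
      | mul_X P i hP =>
        have h1 : e • rel (some (j, i)) ∈ N := Ideal.subset_span ⟨some (j, i), rfl⟩
        convert N.add_mem (N.mul_mem_left (f P) h1) (N.mul_mem_left (r j i • (1 : A)) hP) using 1
        simp only [rel, Option.elim, map_mul, MvPolynomial.aeval_X, Algebra.smul_def, mul_one]
        ring
    obtain ⟨Q, rfl⟩ := hf a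
    have h0 : ∀ j, e * MvPolynomial.aeval (r j) Q = 0 := fun j =>
      mul_eq_zero_of_mk he ((hφ j Q).symm.trans (ha j))
    have hnone : e • rel none ∈ N := Ideal.subset_span ⟨none, rfl⟩
    refine mem_nilradical.1 (hN ?_)
    have hsum : ∑ j, (e • (f Q * u j) - e • ((MvPolynomial.aeval (r j) Q) • u j)) ∈ N :=
      sum_mem fun j _ => step j Q
    convert N.add_mem hsum (N.mul_mem_left (f Q) hnone) using 1
    simp only [← mul_smul, h0, zero_smul, sub_zero, rel, Option.elim, mul_smul_comm, mul_sub, mul_one,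
      Finset.mul_sum, smul_sub, Finset.smul_sum]
    abel

end Groth.Agent.QFSplit24
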