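import Mathlib

/-!
# Quasi-finite algebras over absolutely flat rings with algebraically closed residue fields
-/

set_option autoImplicit false
set_option linter.style.haveILetI false

universe u

open Polynomial
open scoped TensorProduct

namespace Groth.Agent.QFSplit24

/-- The product of the algebraic closures of the residue fields. -/
abbrev AF (A : Type u) [CommRing A] : Type u :=
  ∀ p : PrimeSpectrum A, AlgebraicClosure p.asIdeal.ResidueField

/-- Every element has a quasi-inverse. -/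
def IsReg (T : Type u) [CommRing T] : Prop := ∀ x : T, ∃ y : T, x * y * x = x

theorem isReg_pi {ι : Type u} (K : ι → Type u) [∀ i, Field (K i)] : IsReg (∀ i, K i) := fun x =>
  ⟨fun i => (x i)⁻¹, funext fun i => mul_inv_mul_cancel (x i)⟩

variable {T : Type u} [CommRing T]

theorem IsReg.exists_idempotent (h : IsReg T) (p : Ideal T) [p.IsPrime] {e : T} (he : e ∉ p) :
    ∃ e' : T, IsIdempotentElem e' ∧ e' ∉ p ∧ e ∣ e' := by
  obtain ⟨y, hy⟩ := h e
  refine ⟨e * y, ?_, fun hp => he ?_, ⟨y, rfl⟩⟩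
  · show e * y * (e * y) = e * y
    rw [← mul_assoc, hy]
  · rw [← hy]
    exact p.mul_mem_right e hp

theorem IsReg.isMaximal (h : IsReg T) (p : Ideal T) [p.IsPrime] : p.IsMaximal := by
  rw [Ideal.isMaximal_iff]
  refine ⟨fun h1 => Ideal.IsPrime.ne_top ‹_› ((Ideal.eq_top_iff_one p).2 h1), fun J x hpJ hxp hxJ => ?_⟩
  obtain ⟨y, hy⟩ := h x
  have h2 : x * (1 - x * y) ∈ p := by
    rw [show x * (1 - x * y) = x - x * y * x by ring, hy, sub_self]
    exact p.zero_mem
  have h3 := hpJ ((Ideal.IsPrime.mem_or_mem ‹_› h2).resolve_left hxp)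
  have := J.add_mem h3 (J.mul_mem_right y hxJ)
  rwa [sub_add_cancel] at this

theorem IsReg.exists_kill (h : IsReg T) (p : Ideal T) [p.IsPrime] {x : T} (hx : x ∈ p) :
    ∃ e : T, IsIdempotentElem e ∧ e ∉ p ∧ e * x = 0 := by
  obtain ⟨y, hy⟩ := h x
  refine ⟨1 - x * y, ?_, fun h1 => ?_, ?_⟩
  · refine IsIdempotentElem.one_sub ?_
    show x * y * (x * y) = x * y
    rw [← mul_assoc, hy]
  · have := p.add_mem h1 (p.mul_mem_right y hx)
    rw [sub_add_cancel] at this
    exact Ideal.IsPrime.ne_top ‹_› ((Ideal.eq_top_iff_one p).2 this)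
  · rw [sub_mul, one_mul, hy, sub_self]

theorem isAlgClosed_quotient_pi {ι : Type u} (K : ι → Type u) [∀ i, Field (K i)] [∀ i, IsAlgClosed (K i)]
    (p : Ideal (∀ i, K i)) [p.IsMaximal] :
    letI := Ideal.Quotient.field p
    IsAlgClosed ((∀ i, K i) ⧸ p) := by
  letI := Ideal.Quotient.field p
  refine IsAlgClosed.of_exists_root _ fun f hf hirr => ?_
  obtain ⟨q, hq, hdeg, hqm⟩ := lifts_and_degree_eq_and_monic
    ((lifts_iff_coeff_lifts f).2 fun n => Ideal.Quotient.mk_surjective (f.coeff n)) hf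
  have hr : ∀ i, ∃ r, (q.map (Pi.evalRingHom K i)).eval r = 0 := fun i => by
    refine IsAlgClosed.exists_root _ ?_
    rw [hqm.degree_map, hdeg]
    exact (degree_pos_of_irreducible hirr).ne'
  choose r hr using hr
  refine ⟨Ideal.Quotient.mk p r, ?_⟩
  rw [← hq, eval_map, eval₂_at_apply]
  rw [show q.eval r = 0 from funext fun i => ?_, map_zero]
  show (Pi.evalRingHom K i) (q.eval r) = 0
  rw [← eval₂_at_apply, ← eval_map]
  exact hr i

variable (A : Type u) [CommRing A] [Algebra T A]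

/-- Splitting data over an idempotent. -/
def Good (e : T) : Prop :=
  ∃ (n : ℕ) (φ : Fin n → (A →ₐ[T] T ⧸ Ideal.span {1 - e})),
    (∀ c : Fin n → T, ∃ a, ∀ l, φ l a = Ideal.Quotient.mk _ (c l)) ∧
      ∀ a, (∀ l, φ l a = 0) → IsNilpotent (e • a)

variable {A}

theorem mk_eq_zero {e x : T} (h : e * x = 0) : Ideal.Quotient.mk (Ideal.span {1 - e}) x = 0 := by
  rw [Ideal.Quotient.eq_zero_iff_mem, Ideal.mem_span_singleton]
  exact ⟨x, by rw [sub_mul, one_mul, h, sub_zero]⟩

theorem mul_eq_zero_of_mk {e x : T} (he : IsIdempotentElem e)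
    (h : Ideal.Quotient.mk (Ideal.span {1 - e}) x = 0) : e * x = 0 := by
  rw [Ideal.Quotient.eq_zero_iff_mem, Ideal.mem_span_singleton] at h
  obtain ⟨c, rfl⟩ := h
  rw [← mul_assoc, mul_sub, mul_one, he, sub_self, zero_mul]

theorem Good.mono {e e' : T} (h : Good A e) (hee : e' * e = e') (he' : IsIdempotentElem e') :
    Good A e' := by
  obtain ⟨n, φ, hs, hn⟩ := h
  have hle : Ideal.span {1 - e} ≤ Ideal.span {1 - e'} := by
    rw [Ideal.span_singleton_le_iff_mem, Ideal.mem_span_singleton]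
    exact ⟨1 - e, by rw [sub_mul, one_mul, mul_sub, mul_one, hee, sub_self, sub_zero]⟩
  refine ⟨n, fun l => (Ideal.Quotient.factorₐ T hle).comp (φ l), fun c => ?_, fun a ha => ?_⟩
  · obtain ⟨a, ha⟩ := hs c
    refine ⟨a, fun l => ?_⟩
    show Ideal.Quotient.factorₐ T hle (φ l a) = _
    rw [ha]
    exact Ideal.Quotient.factor_mk hle (c l)
  · have h0 : ∀ l, φ l (e' • a) = 0 := fun l => by
      obtain ⟨t, ht⟩ := Ideal.Quotient.mk_surjective (φ l a)
      have h1 : Ideal.Quotient.mk (Ideal.span {1 - e'}) t = 0 := by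
        have h2 := ha l
        rw [AlgHom.comp_apply, ← ht] at h2
        rwa [← Ideal.Quotient.factor_mk hle t]
      rw [map_smul, ← ht, Algebra.smul_def, Ideal.Quotient.algebraMap_eq, ← map_mul]
      rw [Ideal.Quotient.eq_zero_iff_mem, Ideal.mem_span_singleton] at h1
      obtain ⟨d, rfl⟩ := h1
      refine mk_eq_zero ?_
      rw [show e * (e' * ((1 - e') * d)) = e * d * (e' - e' * e') by ring, he'.eq, sub_self, mul_zero]
    have := hn _ h0
    rwa [← mul_smul, mul_comm, hee] at this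

end Groth.Agent.QFSplit24
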